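import Cfsg.Agent.Lib.Helper45.SimChar

set_option autoImplicit false

/-! The type of a matrix as a function, conjugacy classes of `GL` and a counting principle. -/

open Polynomial

namespace Cfsg.Agent.Lib.Helper45

variable {F : Type*} [Field F]
variable {n : Type*} [Fintype n] [DecidableEq n]

/-- the elementary divisor type of a matrix. -/
noncomputable def typ (A : Matrix n n F) : Multiset (F[X] × ℕ) := Classical.choose (exists_hasType A)

theorem hasType_typ (A : Matrix n n F) : HasType A (typ A) := Classical.choose_spec (exists_hasType A)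

theorem HasType.typ_eq {A : Matrix n n F} {T : Multiset (F[X] × ℕ)} (h : HasType A T) :
    typ A = T := (hasType_typ A).unique h

theorem isConj_iff_typ_eq (g h : GL n F) :
    IsConj g h ↔ typ (g : Matrix n n F) = typ (h : Matrix n n F) := by
  rw [isConj_iff]
  constructor
  · rintro ⟨c, hc⟩
    have h1 : (c : Matrix n n F) * (g : Matrix n n F) = (h : Matrix n n F) * (c : Matrix n n F) := by
      rw [← Units.val_mul, ← Units.val_mul, ← hc]
      simp
    exact (((hasType_typ (g : Matrix n n F)).of_conj c h1).typ_eq).symm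
  · intro ht
    have h1 := hasType_typ (g : Matrix n n F)
    rw [ht] at h1
    obtain ⟨P, hP⟩ := h1.conj (hasType_typ (h : Matrix n n F))
    refine ⟨P, ?_⟩
    rw [mul_inv_eq_iff_eq_mul]
    exact Units.ext hP

/-- the type of a conjugacy class. -/
noncomputable def ctyp (C : ConjClasses (GL n F)) : Multiset (F[X] × ℕ) :=
  Quotient.liftOn' C (fun g => typ (g : Matrix n n F)) (fun g h hgh => (isConj_iff_typ_eq g h).1 hgh)

theorem ctyp_mk (g : GL n F) : ctyp (ConjClasses.mk g) = typ (g : Matrix n n F) := rfl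

theorem ctyp_injective : Function.Injective (ctyp : ConjClasses (GL n F) → _) := by
  intro C D h
  obtain ⟨g, rfl⟩ := ConjClasses.exists_rep C
  obtain ⟨k, rfl⟩ := ConjClasses.exists_rep D
  rw [ctyp_mk, ctyp_mk] at h
  exact ConjClasses.mk_eq_mk_iff_isConj.2 ((isConj_iff_typ_eq g k).2 h)

/-- counting principle. -/
theorem card_classes_eq (P : GL n F → Prop) (S : Set (Multiset (F[X] × ℕ)))
    (h1 : ∀ g, P g → typ (g : Matrix n n F) ∈ S)
    (h2 : ∀ T ∈ S, ∃ g, P g ∧ typ (g : Matrix n n F) = T) :
    Nat.card {C : ConjClasses (GL n F) // ∃ g, P g ∧ ConjClasses.mk g = C} = Nat.card S := by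
  apply Nat.card_eq_of_bijective
    (fun C : {C : ConjClasses (GL n F) // ∃ g, P g ∧ ConjClasses.mk g = C} =>
      (⟨ctyp C.1, by
        obtain ⟨g, hg, hC⟩ := C.2
        rw [← hC, ctyp_mk]
        exact h1 g hg⟩ : S))
  constructor
  · intro C D h
    exact Subtype.ext (ctyp_injective (congrArg Subtype.val h))
  · rintro ⟨T, hT⟩
    obtain ⟨g, hg, rfl⟩ := h2 T hT
    exact ⟨⟨ConjClasses.mk g, g, hg, rfl⟩, rfl⟩

end Cfsg.Agent.Lib.Helper45
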