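import Cfsg.Agent.Lib.Helper45.SimGL

set_option autoImplicit false

/-! Semisimple invertible matrices (all elementary divisors irreducible, none equal to `X`). -/

open Polynomial UniqueFactorizationMonoid

namespace Cfsg.Agent.Lib.Helper45

variable {F : Type*} [Field F]

/-- types of semisimple invertible matrices of size `m`. -/
def ssTypes (F : Type*) [Field F] (m : ℕ) : Set (Multiset (F[X] × ℕ)) :=
  {T | (∀ x ∈ T, x.1.Monic ∧ Irreducible x.1 ∧ x.1 ≠ X ∧ x.2 = 1) ∧
    (T.map (fun x => x.1.natDegree)).sum = m}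

/-- monic polynomials of degree `m` with non-zero constant term. -/
def ssPolys (F : Type*) [Field F] (m : ℕ) : Set F[X] :=
  {f | f.Monic ∧ f.natDegree = m ∧ f.coeff 0 ≠ 0}

theorem ssTypes_prod_mem {m : ℕ} {T : Multiset (F[X] × ℕ)} (hT : T ∈ ssTypes F m) :
    (T.map Prod.fst).prod ∈ ssPolys F m := by
  refine ⟨monic_multiset_prod_of_monic _ _ (fun x hx => (hT.1 x hx).1), ?_, ?_⟩
  · rw [natDegree_multiset_prod_of_monic, Multiset.map_map]
    · exact hT.2
    · intro f hf
      obtain ⟨x, hx, rfl⟩ := Multiset.mem_map.1 hf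
      exact (hT.1 x hx).1
  · intro h0
    rw [← X_dvd_iff] at h0
    obtain ⟨f, hf, hd⟩ := Prime.exists_mem_multiset_dvd prime_X h0
    obtain ⟨x, hx, rfl⟩ := Multiset.mem_map.1 hf
    obtain ⟨h1, h2, h3, _⟩ := hT.1 x hx
    exact h3 (eq_of_monic_of_associated monic_X h1
      (irreducible_X.associated_of_dvd h2 hd)).symm

open scoped Classical in
theorem ssPolys_factors_mem {m : ℕ} {f : F[X]} (hf : f ∈ ssPolys F m) :
    (normalizedFactors f).map (fun π => (π, 1)) ∈ ssTypes F m := by
  obtain ⟨h1, h2, h3⟩ := hf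
  have hprod : (normalizedFactors f).prod = f := by
    rw [prod_normalizedFactors_eq h1.ne_zero, h1.normalize_eq_self]
  have hmon : ∀ π ∈ normalizedFactors f, π.Monic := by
    intro π hπ
    have := normalize_normalized_factor π hπ
    rw [← this]
    exact monic_normalize (irreducible_of_normalized_factor π hπ).ne_zero
  constructor
  · intro x hx
    obtain ⟨π, hπ, rfl⟩ := Multiset.mem_map.1 hx
    refine ⟨hmon π hπ, irreducible_of_normalized_factor π hπ, ?_, rfl⟩
    rintro rfl
    exact h3 (X_dvd_iff.1 (dvd_of_mem_normalizedFactors hπ))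
  · rw [Multiset.map_map, ← h2]
    conv_rhs => rw [← hprod]
    rw [natDegree_multiset_prod_of_monic _ hmon]
    rfl

open scoped Classical in
/-- semisimple types are the same as their characteristic polynomials. -/
noncomputable def ssEquiv (F : Type*) [Field F] (m : ℕ) : ssTypes F m ≃ ssPolys F m where
  toFun T := ⟨(T.1.map Prod.fst).prod, ssTypes_prod_mem T.2⟩
  invFun f := ⟨(normalizedFactors f.1).map (fun π => (π, 1)), ssPolys_factors_mem f.2⟩
  left_inv T := by
    apply Subtype.ext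
    simp only
    rw [normalizedFactors_prod_eq, Multiset.map_map, Multiset.map_map]
    · conv_rhs => rw [← Multiset.map_id T.1]
      apply Multiset.map_congr rfl
      intro x hx
      obtain ⟨h1, _, _, h4⟩ := T.2.1 x hx
      exact Prod.ext h1.normalize_eq_self h4.symm
    · intro f hf
      obtain ⟨x, hx, rfl⟩ := Multiset.mem_map.1 hf
      exact (T.2.1 x hx).2.1
  right_inv f := by
    apply Subtype.ext
    simp only [Multiset.map_map]
    have : (Prod.fst ∘ fun π : F[X] => (π, 1)) = id := rfl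
    rw [this, Multiset.map_id, prod_normalizedFactors_eq f.2.1.ne_zero, f.2.1.normalize_eq_self]

theorem ssTypes_valid {m : ℕ} {T : Multiset (F[X] × ℕ)} (hT : T ∈ ssTypes F m) :
    (∀ x ∈ T, x.1.Monic ∧ Irreducible x.1 ∧ 1 ≤ x.2) ∧
      (T.map (fun x => x.2 * x.1.natDegree)).sum = m := by
  constructor
  · intro x hx
    obtain ⟨h1, h2, _, h4⟩ := hT.1 x hx
    exact ⟨h1, h2, h4.ge⟩
  · rw [← hT.2]
    congr 1
    apply Multiset.map_congr rfl
    intro x hx
    rw [(hT.1 x hx).2.2.2, one_mul]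

variable {n : Type*} [Fintype n] [DecidableEq n]

theorem HasType.mem_ssTypes_of_pow_eq_one {A : Matrix n n F} {T : Multiset (F[X] × ℕ)}
    (h : HasType A T) {m : ℕ} (hm : (m : F) ≠ 0) (hA : A ^ m = 1) :
    T ∈ ssTypes F (Fintype.card n) := by
  have h0 : aeval A (X ^ m - 1 : F[X]) = 0 := by simp [hA]
  have h1 := (h.aeval_eq_zero_iff _).1 h0
  have hsq : Squarefree (X ^ m - 1 : F[X]) := (X_pow_sub_one_separable_iff.2 hm).squarefree
  have hm0 : m ≠ 0 := by rintro rfl; simp at hm
  have key : ∀ x ∈ T, x.1.Monic ∧ Irreducible x.1 ∧ x.1 ≠ X ∧ x.2 = 1 := by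
    intro x hx
    obtain ⟨a, b, c⟩ := ModHasType.valid h x hx
    refine ⟨a, b, ?_, ?_⟩
    · intro hX
      have h2 : x.1 ∣ X ^ m - 1 := (dvd_pow_self _ (by omega)).trans (h1 x hx)
      rw [hX, X_dvd_iff] at h2
      simp [Ne.symm hm0] at h2
    · by_contra hne
      have h2 : x.1 * x.1 ∣ X ^ m - 1 := by
        rw [← pow_two]
        exact (pow_dvd_pow _ (by omega)).trans (h1 x hx)
      exact b.not_isUnit (hsq _ h2)
  refine ⟨key, ?_⟩
  rw [← h.sum_deg]
  congr 1
  apply Multiset.map_congr rfl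
  intro x hx
  rw [(key x hx).2.2.2, one_mul]

theorem HasType.charpoly_of_mem_ssTypes {A : Matrix n n F} {T : Multiset (F[X] × ℕ)}
    (h : HasType A T) {m : ℕ} (hT : T ∈ ssTypes F m) : A.charpoly = (T.map Prod.fst).prod := by
  rw [h.charpoly]
  congr 1
  apply Multiset.map_congr rfl
  intro x hx
  rw [(hT.1 x hx).2.2.2, pow_one]

theorem HasType.pow_eq_one_of_mem_ssTypes [Finite F] {A : Matrix n n F}
    {T : Multiset (F[X] × ℕ)} (h : HasType A T) {m : ℕ} (hT : T ∈ ssTypes F m) :
    A ^ (Nat.card F ^ m.factorial - 1) = 1 := by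
  have h0 : aeval A (X ^ (Nat.card F ^ m.factorial - 1) - 1 : F[X]) = 0 := by
    rw [h.aeval_eq_zero_iff]
    intro x hx
    obtain ⟨h1, h2, h3, h4⟩ := hT.1 x hx
    rw [h4, pow_one]
    have hle : x.1.natDegree ≤ m := by
      rw [← hT.2]
      exact Multiset.single_le_sum (fun _ _ => Nat.zero_le _) _
        (Multiset.mem_map_of_mem (fun x : F[X] × ℕ => x.1.natDegree) hx)
    have hd : x.1.natDegree ∣ m.factorial := Nat.dvd_factorial h2.natDegree_pos hle
    have h5 := h2.natDegree_dvd_iff_dvd_X_pow_card_pow_sub_X.1 hd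
    have hpos : 0 < Nat.card F ^ m.factorial := pow_pos Nat.card_pos _
    have h6 : (X ^ Nat.card F ^ m.factorial - X : F[X])
        = X * (X ^ (Nat.card F ^ m.factorial - 1) - 1) := by
      rw [mul_sub, mul_one, ← pow_succ', Nat.sub_add_cancel hpos]
    rw [h6] at h5
    have hcop : IsCoprime x.1 X := isCoprime_of_monic_irreducible_ne h1 h2 monic_X irreducible_X h3
    exact hcop.dvd_of_dvd_mul_left h5
  simpa [sub_eq_zero] using h0

omit [Fintype n] [DecidableEq n] in
theorem cast_ne_zero_of_coprime (p : ℕ) [Fact p.Prime] [CharP F p] {m : ℕ} (h : m.Coprime p) :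
    (m : F) ≠ 0 := by
  have hp : p.Prime := Fact.out
  rw [Ne, CharP.cast_eq_zero_iff F p]
  exact (Nat.Prime.coprime_iff_not_dvd hp).1 h.symm

omit [Fintype n] [DecidableEq n] in
theorem coprime_card_pow_sub_one [Finite F] (p : ℕ) [Fact p.Prime] [CharP F p] {N : ℕ}
    (hN : N ≠ 0) : (Nat.card F ^ N - 1).Coprime p := by
  have hp : p.Prime := Fact.out
  have := Fintype.ofFinite F
  have h1 : p ∣ Nat.card F := by
    rw [← CharP.cast_eq_zero_iff F p, Nat.card_eq_fintype_card]
    exact Nat.cast_card_eq_zero F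
  have h2 : p ∣ Nat.card F ^ N := h1.trans (dvd_pow_self _ hN)
  have hpos : 0 < Nat.card F ^ N := pow_pos Nat.card_pos _
  apply Nat.Coprime.symm
  rw [Nat.Prime.coprime_iff_not_dvd hp]
  intro h3
  have h4 : p ∣ Nat.card F ^ N - (Nat.card F ^ N - 1) := Nat.dvd_sub h2 h3
  have h5 : Nat.card F ^ N - (Nat.card F ^ N - 1) = 1 := by omega
  rw [h5] at h4
  exact hp.one_lt.ne' (Nat.dvd_one.1 h4)

/-- every semisimple type is realised by an element of `GL` of order prime to `p`. -/
theorem exists_GL_of_mem_ssTypes [Finite F] (p : ℕ) [Fact p.Prime] [CharP F p]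
    {T : Multiset (F[X] × ℕ)} (hT : T ∈ ssTypes F (Fintype.card n)) :
    ∃ g : GL n F, (orderOf g).Coprime p ∧ HasType (g : Matrix n n F) T := by
  obtain ⟨hv, hd⟩ := ssTypes_valid hT
  obtain ⟨A, hA⟩ := exists_hasType_of_valid (n := n) T hv hd
  have h1 := hA.pow_eq_one_of_mem_ssTypes hT
  have hcop := coprime_card_pow_sub_one (F := F) p (Nat.factorial_ne_zero (Fintype.card n))
  have hne : Nat.card F ^ (Fintype.card n).factorial - 1 ≠ 0 := by
    intro h0
    rw [h0] at hcop
    have hp : p.Prime := Fact.out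
    exact hp.one_lt.ne' ((Nat.coprime_zero_left p).1 hcop)
  refine ⟨Units.ofPowEqOne A _ h1 hne, ?_, hA⟩
  exact Nat.Coprime.of_dvd_left (orderOf_dvd_of_pow_eq_one (Units.pow_ofPowEqOne _ _)) hcop

/-- an element of `GL` of order prime to `p` has semisimple type. -/
theorem typ_mem_ssTypes_of_coprime (p : ℕ) [Fact p.Prime] [CharP F p] {A : Matrix n n F} {m : ℕ}
    (hm : m.Coprime p) (hA : A ^ m = 1) : typ A ∈ ssTypes F (Fintype.card n) :=
  (hasType_typ A).mem_ssTypes_of_pow_eq_one (cast_ne_zero_of_coprime p hm) hA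

end Cfsg.Agent.Lib.Helper45
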