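import Mathlib

set_option autoImplicit false

/-! Counting monic polynomials of given degree with a condition on the constant term. -/

open Polynomial

namespace Cfsg.Agent.Lib.Helper45

variable {F : Type*} [Field F]

/-- the monic polynomial with given lower coefficients. -/
noncomputable def monicOf {m : ℕ} (c : Fin m → F) : F[X] :=
  X ^ m + ∑ i : Fin m, C (c i) * X ^ (i : ℕ)

theorem monicOf_monic {m : ℕ} (c : Fin m → F) : (monicOf c).Monic :=
  monic_X_pow_add (degree_sum_fin_lt c)

theorem monicOf_natDegree {m : ℕ} (c : Fin m → F) : (monicOf c).natDegree = m :=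
  by
  unfold monicOf
  apply natDegree_eq_of_degree_eq_some
  rw [degree_add_eq_left_of_degree_lt, degree_X_pow]
  rw [degree_X_pow]
  exact degree_sum_fin_lt c

theorem monicOf_coeff {m : ℕ} (c : Fin m → F) (i : Fin m) : (monicOf c).coeff i = c i := by
  classical
  unfold monicOf
  rw [coeff_add, coeff_X_pow, if_neg (by omega), zero_add, finsetSum_coeff]
  simp only [coeff_C_mul_X_pow]
  rw [Finset.sum_eq_single i]
  · simp
  · intro j _ hj
    rw [if_neg]
    intro h
    exact hj (Fin.ext h.symm)
  · simp

/-- monic polynomials of degree `m` and their coefficient vectors. -/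
noncomputable def monicEquiv (F : Type*) [Field F] (m : ℕ) :
    {f : F[X] // f.Monic ∧ f.natDegree = m} ≃ (Fin m → F) where
  toFun f := fun i => f.1.coeff i
  invFun c := ⟨monicOf c, monicOf_monic c, monicOf_natDegree c⟩
  left_inv f := by
    apply Subtype.ext
    obtain ⟨f, h1, h2⟩ := f
    subst h2
    simp only
    conv_rhs => rw [h1.as_sum]
    unfold monicOf
    rw [Fin.sum_univ_eq_sum_range (fun i => C (f.coeff i) * X ^ i)]
  right_inv c := by
    funext i
    exact monicOf_coeff c i

omit [Field F] in
theorem card_vec_cond [Fintype F] (k : ℕ) (Q : F → Prop) :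
    Nat.card {c : Fin (k + 1) → F // Q (c 0)} = Nat.card {a : F // Q a} * Fintype.card F ^ k := by
  classical
  rw [Nat.card_eq_fintype_card, Nat.card_eq_fintype_card, Fintype.card_subtype,
    Fintype.card_subtype]
  have h : (Finset.univ.filter (fun c : Fin (k + 1) → F => Q (c 0)))
      = Fintype.piFinset (fun i : Fin (k + 1) =>
        if i = 0 then Finset.univ.filter Q else Finset.univ) := by
    ext c
    simp only [Finset.mem_filter, Finset.mem_univ, true_and, Fintype.mem_piFinset]
    constructor
    · intro h i
      by_cases hi : i = 0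
      · subst hi; simpa using h
      · simp [hi]
    · intro h
      simpa using h 0
  rw [h, Fintype.card_piFinset, Fin.prod_univ_succ]
  simp [Fin.succ_ne_zero]

theorem card_monic_cond [Fintype F] (k : ℕ) (Q : F → Prop) :
    Nat.card {f : F[X] // f.Monic ∧ f.natDegree = k + 1 ∧ Q (f.coeff 0)}
      = Nat.card {a : F // Q a} * Fintype.card F ^ k := by
  rw [← card_vec_cond k Q]
  have e1 : {f : F[X] // f.Monic ∧ f.natDegree = k + 1 ∧ Q (f.coeff 0)}
      ≃ {f : {f : F[X] // f.Monic ∧ f.natDegree = k + 1} // Q (f.1.coeff 0)} :=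
    (Equiv.subtypeEquivRight (fun f => by rw [and_assoc])).trans
      (Equiv.subtypeSubtypeEquivSubtypeInter
        (fun f : F[X] => f.Monic ∧ f.natDegree = k + 1) (fun f => Q (f.coeff 0))).symm
  have e2 : {f : {f : F[X] // f.Monic ∧ f.natDegree = k + 1} // Q (f.1.coeff 0)}
      ≃ {c : Fin (k + 1) → F // Q (c 0)} :=
    (monicEquiv F (k + 1)).subtypeEquiv (fun f => Iff.rfl)
  exact Nat.card_congr (e1.trans e2)

end Cfsg.Agent.Lib.Helper45
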