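import Mathlib

set_option autoImplicit false

namespace Cfsg.Agent.Lib.Helper45

open Matrix

variable {l : Type*} [Fintype l] [DecidableEq l] {R : Type*} [CommRing R]

/-- the standard alternating form `u ↦ v ↦ uᵀ J v`, written out. -/
theorem dotProduct_J_mulVec (u v : l ⊕ l → R) :
    u ⬝ᵥ (J l R *ᵥ v) = ∑ j, u (.inr j) * v (.inl j) - ∑ j, u (.inl j) * v (.inr j) := by
  simp only [J, dotProduct, fromBlocks_mulVec, Fintype.sum_sum_type, Sum.elim_inl, Sum.elim_inr]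
  simp [Function.comp_def, neg_mulVec]
  ring

omit [Fintype l] in
theorem matrix_ext_of_dotProduct {m : Type*} [Fintype m] [DecidableEq m] (M N : Matrix m m R)
    (h : ∀ u v, u ⬝ᵥ (M *ᵥ v) = u ⬝ᵥ (N *ᵥ v)) : M = N := by
  ext x y
  simpa using h (Pi.single x 1) (Pi.single y 1)

/-- `A` is symplectic iff it preserves the standard alternating form. -/
theorem mem_symplecticGroup_iff_form (A : Matrix (l ⊕ l) (l ⊕ l) R) :
    A ∈ symplecticGroup l R ↔
      ∀ u v, (A *ᵥ u) ⬝ᵥ (J l R *ᵥ (A *ᵥ v)) = u ⬝ᵥ (J l R *ᵥ v) := by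
  have key : ∀ u v, (A *ᵥ u) ⬝ᵥ (J l R *ᵥ (A *ᵥ v)) = u ⬝ᵥ ((Aᵀ * J l R * A) *ᵥ v) := by
    intro u v
    rw [← mulVec_mulVec, ← mulVec_mulVec, dotProduct_mulVec u, vecMul_transpose]
  rw [SymplecticGroup.mem_iff']
  constructor
  · intro h u v
    rw [key, h]
  · intro h
    apply matrix_ext_of_dotProduct
    intro u v
    rw [← key, h]

end Cfsg.Agent.Lib.Helper45
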