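import Cfsg.Agent.Lib.Helper45.SimMat

set_option autoImplicit false

/-! Annihilators and characteristic polynomials in terms of the elementary divisor type. -/

open Polynomial

namespace Cfsg.Agent.Lib.Helper45

variable {F : Type*} [Field F]

section ann

variable {M : Type*} [AddCommGroup M] [Module F[X] M]

theorem ModHasType.smul_eq_zero_iff {T : Multiset (F[X] × ℕ)} (h : ModHasType M T) (f : F[X]) :
    (∀ m : M, f • m = 0) ↔ ∀ x ∈ T, x.1 ^ x.2 ∣ f := by
  obtain ⟨m, pe, hpe, rfl, ⟨e⟩⟩ := h
  have h1 : (∀ m : M, f • m = 0) ↔ ∀ y : EDMod pe, f • y = 0 := by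
    constructor
    · intro h y
      have := h (e.symm y)
      rw [← map_smul] at this
      exact e.symm.map_eq_zero_iff.1 this
    · intro h y
      have := h (e y)
      rw [← map_smul] at this
      exact e.map_eq_zero_iff.1 this
  rw [h1]
  constructor
  · intro h x hx
    obtain ⟨i, _, rfl⟩ := Multiset.mem_map.1 hx
    have h2 := congrFun (h (fun i => Submodule.Quotient.mk 1)) i
    simp only [Pi.smul_apply, Pi.zero_apply] at h2
    rw [← Submodule.Quotient.mk_smul, Submodule.Quotient.mk_eq_zero, smul_eq_mul, mul_one] at h2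
    exact Ideal.mem_span_singleton.1 h2
  · intro h y
    funext i
    obtain ⟨a, ha⟩ := Submodule.Quotient.mk_surjective _ (y i)
    simp only [Pi.smul_apply, Pi.zero_apply]
    rw [← ha, ← Submodule.Quotient.mk_smul, Submodule.Quotient.mk_eq_zero, smul_eq_mul]
    exact Ideal.mem_span_singleton.2
      (Dvd.dvd.mul_right (h _ (Multiset.mem_map_of_mem _ (Finset.mem_univ_val i))) _)

end ann

section annmat

variable {n : Type*} [Fintype n] [DecidableEq n]

theorem aeval_eq_zero_iff_smul (A : Matrix n n F) (f : F[X]) :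
    aeval A f = 0 ↔ ∀ m : MatMod A, f • m = 0 := by
  constructor
  · intro h m
    obtain ⟨v, rfl⟩ := (Module.AEval'.of (Matrix.toLin' A)).surjective m
    rw [matMod_smul_of, h]
    simp
  · intro h
    apply Matrix.toLin'.injective
    apply LinearMap.ext
    intro v
    have := h (Module.AEval'.of (Matrix.toLin' A) v)
    rw [matMod_smul_of] at this
    simpa using this

theorem HasType.aeval_eq_zero_iff {A : Matrix n n F} {T : Multiset (F[X] × ℕ)}
    (h : HasType A T) (f : F[X]) : aeval A f = 0 ↔ ∀ x ∈ T, x.1 ^ x.2 ∣ f :=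
  (aeval_eq_zero_iff_smul A f).trans (ModHasType.smul_eq_zero_iff h f)

end annmat

section chp

/-- multiplication by `X` as an `F`-linear endomorphism. -/
noncomputable def Xend (N : Type*) [AddCommGroup N] [Module F N] [Module F[X] N]
    [IsScalarTower F F[X] N] : N →ₗ[F] N := (LinearMap.lsmul F[X] N X).restrictScalars F

theorem Xend_apply {N : Type*} [AddCommGroup N] [Module F N] [Module F[X] N]
    [IsScalarTower F F[X] N] (x : N) : Xend (F := F) N x = (X : F[X]) • x := rfl

theorem charpoly_Xend_congr {M N : Type*} [AddCommGroup M] [Module F M] [Module F[X] M]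
    [IsScalarTower F F[X] M] [AddCommGroup N] [Module F N] [Module F[X] N]
    [IsScalarTower F F[X] N] [Module.Finite F M] [Module.Finite F N] (φ : M ≃ₗ[F[X]] N) :
    (Xend (F := F) M).charpoly = (Xend (F := F) N).charpoly := by
  rw [← LinearEquiv.charpoly_conj (φ.restrictScalars F) (Xend (F := F) M)]
  congr 1
  apply LinearMap.ext
  intro x
  simp [LinearEquiv.conj_apply, Xend_apply]

theorem charpoly_Xend_cyclic {g : F[X]} (hg : g.Monic) :
    haveI := hg.finite_quotient
    (Xend (F := F) (F[X] ⧸ Ideal.span {g})).charpoly = g := by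
  have := hg.finite_quotient
  have h1 := charpoly_leftMulMatrix (AdjoinRoot.powerBasis hg.ne_zero)
  rw [AdjoinRoot.minpoly_powerBasis_gen_of_monic hg] at h1
  refine Eq.trans ?_ h1
  rw [← LinearMap.charpoly_toMatrix (Xend (F := F) (F[X] ⧸ Ideal.span {g}))
    (AdjoinRoot.powerBasis hg.ne_zero).basis]
  congr 1

theorem charpoly_Xend_EDMod : ∀ (m : ℕ) (pe : Fin m → F[X] × ℕ) (h : IsED pe),
    haveI := finite_EDMod pe h
    (Xend (F := F) (EDMod pe)).charpoly = ∏ i, (pe i).1 ^ (pe i).2 := by
  intro m
  induction m with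
  | zero =>
    intro pe h
    have := finite_EDMod pe h
    rw [← LinearMap.charpoly_toMatrix (Xend (F := F) (EDMod pe))
      (Module.Basis.empty (EDMod pe) : Module.Basis (Fin 0) F (EDMod pe)), Matrix.charpoly_isEmpty]
    simp
  | succ m ih =>
    intro pe h
    have := finite_EDMod pe h
    have h' : IsED (fun i : Fin m => pe i.succ) := fun i => h _
    have := finite_EDMod _ h'
    have := finite_cyc (h 0).1 (pe 0).2
    let e := Fin.consLinearEquiv F[X] (fun i => F[X] ⧸ Ideal.span {(pe i).1 ^ (pe i).2})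
    rw [← charpoly_Xend_congr e]
    have h2 : Xend (F := F) ((F[X] ⧸ Ideal.span {(pe 0).1 ^ (pe 0).2}) ×
        (∀ i : Fin m, F[X] ⧸ Ideal.span {(pe i.succ).1 ^ (pe i.succ).2}))
        = (Xend (F := F) (F[X] ⧸ Ideal.span {(pe 0).1 ^ (pe 0).2})).prodMap
          (Xend (F := F) (EDMod (fun i : Fin m => pe i.succ))) := by
      apply LinearMap.ext
      intro x
      rfl
    rw [h2, LinearMap.charpoly_prodMap, charpoly_Xend_cyclic ((h 0).1.pow _), ih _ h',
      Fin.prod_univ_succ]

variable {n : Type*} [Fintype n] [DecidableEq n]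

theorem charpoly_Xend_matMod (A : Matrix n n F) :
    (Xend (F := F) (MatMod A)).charpoly = A.charpoly := by
  rw [← Matrix.charpoly_toLin' A,
    ← LinearEquiv.charpoly_conj (Module.AEval'.of (Matrix.toLin' A)) (Matrix.toLin' A)]
  congr 1
  apply LinearMap.ext
  intro x
  obtain ⟨v, rfl⟩ := (Module.AEval'.of (Matrix.toLin' A)).surjective x
  simp [LinearEquiv.conj_apply, Xend_apply, Module.AEval'.X_smul_of]

theorem HasType.charpoly {A : Matrix n n F} {T : Multiset (F[X] × ℕ)} (h : HasType A T) :
    A.charpoly = (T.map (fun x => x.1 ^ x.2)).prod := by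
  obtain ⟨m, pe, hpe, rfl, ⟨e⟩⟩ := h
  have := finite_EDMod pe hpe
  rw [← charpoly_Xend_matMod, charpoly_Xend_congr e, charpoly_Xend_EDMod m pe hpe,
    Multiset.map_map]
  rfl

end chp

end Cfsg.Agent.Lib.Helper45
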