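import Mathlib

set_option autoImplicit false

/-! Coranks of polynomial multiplications on `F[X]`-modules, and their values on
products of cyclic modules `F[X] ⧸ (p ^ e)`. -/

open Polynomial

namespace Cfsg.Agent.Lib.Helper45

variable (F : Type*) [Field F]

section cork

variable (M : Type*) [AddCommGroup M] [Module F[X] M] [Module F M] [IsScalarTower F F[X] M]

/-- image of multiplication by `f`. -/
noncomputable def smulRange (f : F[X]) : Submodule F[X] M := LinearMap.range (LinearMap.lsmul F[X] M f)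

omit [Module F M] [IsScalarTower F F[X] M] in
variable {F M} in
theorem mem_smulRange {f : F[X]} {x : M} : x ∈ smulRange F M f ↔ ∃ y, f • y = x := by
  simp [smulRange]

/-- the `F`-dimension of `M / f M`. -/
noncomputable def cork (f : F[X]) : ℕ := Module.finrank F (M ⧸ smulRange F M f)

variable {M} in
theorem cork_congr {N : Type*} [AddCommGroup N] [Module F[X] N] [Module F N]
    [IsScalarTower F F[X] N] (φ : M ≃ₗ[F[X]] N) (f : F[X]) : cork F M f = cork F N f := by
  have h : (smulRange F M f).map (φ : M →ₗ[F[X]] N) = smulRange F N f := by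
    ext x
    simp only [Submodule.mem_map, mem_smulRange]
    constructor
    · rintro ⟨_, ⟨y, rfl⟩, rfl⟩
      exact ⟨φ y, by simp⟩
    · rintro ⟨y, rfl⟩
      exact ⟨f • φ.symm y, ⟨_, rfl⟩, by simp⟩
  exact ((Submodule.Quotient.equiv _ _ φ h).restrictScalars F).finrank_eq

end cork

section pi

variable {ι : Type*} [Fintype ι] (M : ι → Type*) [∀ i, AddCommGroup (M i)]
  [∀ i, Module F[X] (M i)] [∀ i, Module F (M i)] [∀ i, IsScalarTower F F[X] (M i)]

theorem cork_pi [∀ i, Module.Finite F (M i)] (f : F[X]) :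
    cork F (∀ i, M i) f = ∑ i, cork F (M i) f := by
  classical
  have h : smulRange F (∀ i, M i) f = Submodule.pi Set.univ (fun i => smulRange F (M i) f) := by
    ext x
    simp only [Submodule.mem_pi, mem_smulRange, Set.mem_univ, true_implies]
    constructor
    · rintro ⟨y, rfl⟩ i
      exact ⟨y i, rfl⟩
    · intro hx
      choose y hy using hx
      exact ⟨y, funext hy⟩
  unfold cork
  rw [h, ((Submodule.quotientPi (fun i => smulRange F (M i) f)).restrictScalars F).finrank_eq,
    Module.finrank_pi_fintype]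

end pi

section cyclic

theorem cork_cyclic (g f h : F[X])
    (hsup : Ideal.span {g} ⊔ Ideal.span {f} = Ideal.span {h}) :
    cork F (F[X] ⧸ Ideal.span {g}) f = h.natDegree := by
  let ψ : F[X] →ₗ[F[X]] (F[X] ⧸ Ideal.span {g}) ⧸ smulRange F (F[X] ⧸ Ideal.span {g}) f :=
    (Submodule.mkQ _).comp (Submodule.mkQ (Ideal.span {g}))
  have hsurj : Function.Surjective ψ :=
    (Submodule.mkQ_surjective _).comp (Submodule.mkQ_surjective _)
  have hker : LinearMap.ker ψ = Ideal.span {h} := by
    rw [← hsup]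
    ext x
    simp only [ψ, LinearMap.mem_ker, LinearMap.comp_apply, Submodule.mkQ_apply,
      Submodule.Quotient.mk_eq_zero, mem_smulRange]
    constructor
    · rintro ⟨y, hy⟩
      obtain ⟨y, rfl⟩ := Submodule.Quotient.mk_surjective _ y
      rw [← Submodule.Quotient.mk_smul, Submodule.Quotient.eq] at hy
      have h1 : x = f * y - (f • y - x) := by simp
      rw [h1]
      refine Submodule.sub_mem _ ?_ ?_
      · exact Submodule.mem_sup_right (Ideal.mul_mem_right _ _ (Ideal.mem_span_singleton_self f))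
      · exact Submodule.mem_sup_left hy
    · intro hx
      obtain ⟨a, ha, b, hb, rfl⟩ := Submodule.mem_sup.1 hx
      obtain ⟨c, rfl⟩ := Ideal.mem_span_singleton'.1 hb
      refine ⟨Submodule.Quotient.mk c, ?_⟩
      rw [← Submodule.Quotient.mk_smul, Submodule.Quotient.eq]
      have h1 : f • c - (a + c * f) = -a := by simp [mul_comm]
      rw [h1]
      exact Submodule.neg_mem _ ha
  have e1 : (F[X] ⧸ LinearMap.ker ψ) ≃ₗ[F[X]] _ := ψ.quotKerEquivOfSurjective hsurj
  have e2 : (F[X] ⧸ (Ideal.span {h} : Ideal F[X])) ≃ₗ[F[X]] (F[X] ⧸ LinearMap.ker ψ) :=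
    Submodule.quotEquivOfEq _ _ hker.symm
  unfold cork
  rw [← ((e2.trans e1).restrictScalars F).finrank_eq]
  exact finrank_quotient_span_eq_natDegree

theorem cork_pow_same (π : F[X]) (e k : ℕ) :
    cork F (F[X] ⧸ Ideal.span {π ^ e}) (π ^ k) = π.natDegree * min e k := by
  rw [cork_cyclic F (π ^ e) (π ^ k) (π ^ min e k), natDegree_pow, mul_comm]
  rcases le_total e k with h | h
  · rw [min_eq_left h, sup_eq_left, Ideal.span_singleton_le_span_singleton]
    exact pow_dvd_pow _ h
  · rw [min_eq_right h, sup_eq_right, Ideal.span_singleton_le_span_singleton]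
    exact pow_dvd_pow _ h

theorem cork_pow_coprime {p π : F[X]} (h : IsCoprime p π) (e k : ℕ) :
    cork F (F[X] ⧸ Ideal.span {p ^ e}) (π ^ k) = 0 := by
  rw [cork_cyclic F (p ^ e) (π ^ k) 1, natDegree_one]
  rw [Ideal.span_singleton_one, ← Ideal.isCoprime_iff_sup_eq, Ideal.isCoprime_span_singleton_iff]
  exact h.pow

variable {F} in
theorem isCoprime_of_monic_irreducible_ne {p π : F[X]} (hp : p.Monic) (hp' : Irreducible p)
    (hπ : π.Monic) (hπ' : Irreducible π) (hne : p ≠ π) : IsCoprime p π := by
  rw [hp'.coprime_iff_not_dvd]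
  intro hd
  exact hne (eq_of_monic_of_associated hp hπ (hp'.associated_of_dvd hπ' hd))

end cyclic

section ed

variable {F}

/-- validity of a family of elementary divisors. -/
def IsED {ι : Type*} (pe : ι → F[X] × ℕ) : Prop :=
  ∀ i, (pe i).1.Monic ∧ Irreducible (pe i).1 ∧ 1 ≤ (pe i).2

/-- the model module. -/
abbrev EDMod {ι : Type*} (pe : ι → F[X] × ℕ) : Type _ :=
  ∀ i, F[X] ⧸ Ideal.span {(pe i).1 ^ (pe i).2}

theorem finite_cyc {p : F[X]} (hp : p.Monic) (e : ℕ) :
    Module.Finite F (F[X] ⧸ Ideal.span {p ^ e}) := (hp.pow e).finite_quotient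

variable {ι : Type*} [Fintype ι]

theorem cork_EDMod [DecidableEq F] (pe : ι → F[X] × ℕ) (h : IsED pe) {π : F[X]} (hπ : π.Monic)
    (hπ' : Irreducible π) (k : ℕ) :
    cork F (EDMod pe) (π ^ k)
      = π.natDegree * ∑ i, if (pe i).1 = π then min (pe i).2 k else 0 := by
  have : ∀ i, Module.Finite F (F[X] ⧸ Ideal.span {(pe i).1 ^ (pe i).2}) :=
    fun i => finite_cyc (h i).1 _
  rw [cork_pi, Finset.mul_sum]
  refine Finset.sum_congr rfl (fun i _ => ?_)
  split_ifs with hi
  · rw [← hi, cork_pow_same]
  · rw [mul_zero]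
    exact cork_pow_coprime F
      (isCoprime_of_monic_irreducible_ne (h i).1 (h i).2.1 hπ hπ' hi) _ _

theorem natDegree_mul_card_add [DecidableEq F] (pe : ι → F[X] × ℕ) (h : IsED pe) {π : F[X]}
    (hπ : π.Monic) (hπ' : Irreducible π) {k : ℕ} (hk : 1 ≤ k) :
    π.natDegree * (Finset.univ.filter (fun i => pe i = (π, k))).card
      + cork F (EDMod pe) (π ^ (k - 1)) + cork F (EDMod pe) (π ^ (k + 1))
      = 2 * cork F (EDMod pe) (π ^ k) := by
  have key : (∑ i, ((if pe i = (π, k) then 1 else 0)
      + (if (pe i).1 = π then min (pe i).2 (k - 1) else 0)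
      + (if (pe i).1 = π then min (pe i).2 (k + 1) else 0)))
      = ∑ i, 2 * (if (pe i).1 = π then min (pe i).2 k else 0) := by
    refine Finset.sum_congr rfl (fun i _ => ?_)
    by_cases hi : (pe i).1 = π
    · have h1 : (pe i = (π, k)) ↔ (pe i).2 = k := by
        constructor
        · intro h2; rw [h2]
        · intro h2; exact Prod.ext hi h2
      simp only [hi, if_true, h1]
      split_ifs with h3 <;> omega
    · have h1 : ¬ (pe i = (π, k)) := fun h2 => hi (by rw [h2])
      simp [hi, h1]
  rw [Finset.sum_add_distrib, Finset.sum_add_distrib, ← Finset.mul_sum,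
    ← Finset.card_filter] at key
  rw [cork_EDMod pe h hπ hπ', cork_EDMod pe h hπ hπ', cork_EDMod pe h hπ hπ', ← mul_add,
    ← mul_add, key]
  ring

theorem map_eq_of_cork_eq {κ : Type*} [Fintype κ] (pe : ι → F[X] × ℕ) (h : IsED pe)
    (pe' : κ → F[X] × ℕ) (h' : IsED pe')
    (hc : ∀ f, cork F (EDMod pe) f = cork F (EDMod pe') f) :
    Finset.univ.val.map pe = Finset.univ.val.map pe' := by
  classical
  ext ⟨π, k⟩
  by_cases hv : π.Monic ∧ Irreducible π ∧ 1 ≤ k
  · obtain ⟨hπ, hπ', hk⟩ := hv
    have e1 := natDegree_mul_card_add pe h hπ hπ' hk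
    have e2 := natDegree_mul_card_add pe' h' hπ hπ' hk
    rw [hc, hc, hc] at e1
    have e3 : π.natDegree * (Finset.univ.filter (fun i => pe i = (π, k))).card
        = π.natDegree * (Finset.univ.filter (fun i => pe' i = (π, k))).card := by omega
    have e4 := Nat.eq_of_mul_eq_mul_left hπ'.natDegree_pos e3
    rw [Multiset.count_map, Multiset.count_map]
    simp only [Finset.card, Finset.filter_val] at e4
    simpa [eq_comm] using e4
  · rw [Multiset.count_eq_zero_of_notMem, Multiset.count_eq_zero_of_notMem]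
    · intro hm
      obtain ⟨i, _, hi⟩ := Multiset.mem_map.1 hm
      exact hv (by have := h' i; rw [hi] at this; exact this)
    · intro hm
      obtain ⟨i, _, hi⟩ := Multiset.mem_map.1 hm
      exact hv (by have := h i; rw [hi] at this; exact this)

end ed

end Cfsg.Agent.Lib.Helper45
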