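import Cfsg.Agent.Lib.Helper45.SimType

set_option autoImplicit false

/-! Elementary divisor type of a square matrix; it is a complete similarity invariant. -/

open Polynomial

namespace Cfsg.Agent.Lib.Helper45

variable {F : Type*} [Field F]
variable {n : Type*} [Fintype n] [DecidableEq n]

/-- the `F[X]`-module of a matrix. -/
abbrev MatMod (A : Matrix n n F) : Type _ := Module.AEval' (Matrix.toLin' A)

/-- `A` has elementary divisor type `T`. -/
def HasType (A : Matrix n n F) (T : Multiset (F[X] × ℕ)) : Prop := ModHasType (MatMod A) T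

theorem exists_hasType (A : Matrix n n F) : ∃ T, HasType A T :=
  exists_modHasType (Module.AEval.isTorsion_of_finiteDimensional F (n → F) (Matrix.toLin' A))

theorem matMod_smul_of (A : Matrix n n F) (f : F[X]) (v : n → F) :
    f • (Module.AEval'.of (Matrix.toLin' A) v) =
      Module.AEval'.of (Matrix.toLin' A) ((aeval A f).mulVec v) := by
  rw [← Module.AEval.of_aeval_smul]
  congr 1
  have : aeval (Matrix.toLin' A) f = Matrix.toLin' (aeval A f) := by
    have := Polynomial.aeval_algHom_apply (Matrix.toLinAlgEquiv' (R := F) (n := n)).toAlgHom A f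
    exact this
  rw [this]
  rfl

/-- an `F[X]`-module with an `F`-linear identification with `n → F` under which `X` acts as `A`. -/
noncomputable def matModEquiv {N : Type*} [AddCommGroup N] [Module F N] [Module F[X] N]
    [IsScalarTower F F[X] N] (A : Matrix n n F) (φ : (n → F) ≃ₗ[F] N)
    (h : ∀ v, φ (A.mulVec v) = (X : F[X]) • φ v) : MatMod A ≃ₗ[F[X]] N :=
  LinearEquiv.ofAEval (Matrix.toLin' A) φ (fun v => by
    rw [← h]; rfl)

theorem matMod_equiv_of_conj {A B : Matrix n n F} (P : GL n F)
    (h : (P : Matrix n n F) * A = B * (P : Matrix n n F)) :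
    Nonempty (MatMod A ≃ₗ[F[X]] MatMod B) := by
  let L : (n → F) ≃ₗ[F] (n → F) :=
    Matrix.toLin'OfInv (M := ((P⁻¹ : GL n F) : Matrix n n F)) (M' := (P : Matrix n n F))
      (by rw [← Units.val_mul]; simp) (by rw [← Units.val_mul]; simp)
  have hL : ∀ v, L v = (P : Matrix n n F).mulVec v := fun v => rfl
  refine ⟨matModEquiv A (L.trans (Module.AEval'.of (Matrix.toLin' B))) ?_⟩
  intro v
  simp only [LinearEquiv.trans_apply, hL]
  rw [Module.AEval'.X_smul_of, Matrix.toLin'_apply, Matrix.mulVec_mulVec, Matrix.mulVec_mulVec, h]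

theorem conj_of_matMod_equiv {A B : Matrix n n F} (φ : MatMod A ≃ₗ[F[X]] MatMod B) :
    ∃ P : GL n F, (P : Matrix n n F) * A = B * (P : Matrix n n F) := by
  let L : (n → F) ≃ₗ[F] (n → F) :=
    ((Module.AEval'.of (Matrix.toLin' A)).trans (φ.restrictScalars F)).trans
      (Module.AEval'.of (Matrix.toLin' B)).symm
  have hL : ∀ v, L (A.mulVec v) = B.mulVec (L v) := by
    intro v
    simp only [L, LinearEquiv.trans_apply, LinearEquiv.restrictScalars_apply]
    have h1 : Module.AEval'.of (Matrix.toLin' A) (A.mulVec v)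
        = (X : F[X]) • Module.AEval'.of (Matrix.toLin' A) v := by
      rw [Module.AEval'.X_smul_of, Matrix.toLin'_apply]
    rw [h1, map_smul, Module.AEval'.of_symm_X_smul, Matrix.toLin'_apply]
  refine ⟨⟨LinearMap.toMatrix' L.toLinearMap, LinearMap.toMatrix' L.symm.toLinearMap, ?_, ?_⟩, ?_⟩
  · rw [← LinearMap.toMatrix'_comp]; simp
  · rw [← LinearMap.toMatrix'_comp]; simp
  · show LinearMap.toMatrix' L.toLinearMap * A = B * LinearMap.toMatrix' L.toLinearMap
    apply Matrix.toLin'.injective
    apply LinearMap.ext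
    intro v
    simp only [Matrix.toLin'_mul, Matrix.toLin'_toMatrix', LinearMap.comp_apply,
      Matrix.toLin'_apply, LinearEquiv.coe_coe]
    exact hL v

theorem cork_matMod (A : Matrix n n F) (f : F[X]) :
    cork F (MatMod A) f + (aeval A f).rank = Fintype.card n := by
  let N := smulRange F (MatMod A) f
  have h1 : cork F (MatMod A) f = Module.finrank F (MatMod A ⧸ N.restrictScalars F) :=
    (Submodule.Quotient.restrictScalarsEquiv F N).finrank_eq.symm
  have h2 : N.restrictScalars F = (LinearMap.range (aeval A f).mulVecLin).map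
      (Module.AEval'.of (Matrix.toLin' A)).toLinearMap := by
    ext x
    simp only [Submodule.restrictScalars_mem, N, mem_smulRange, Submodule.mem_map,
      LinearMap.mem_range, Matrix.mulVecLin_apply, LinearEquiv.coe_coe]
    constructor
    · rintro ⟨y, rfl⟩
      obtain ⟨v, rfl⟩ := (Module.AEval'.of (Matrix.toLin' A)).surjective y
      exact ⟨_, ⟨v, rfl⟩, (matMod_smul_of A f v).symm⟩
    · rintro ⟨_, ⟨v, rfl⟩, rfl⟩
      exact ⟨_, matMod_smul_of A f v⟩
  have h3 : Module.finrank F (N.restrictScalars F) = (aeval A f).rank := by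
    rw [h2, LinearEquiv.finrank_map_eq]
    rfl
  have h4 := Submodule.finrank_quotient_add_finrank (N.restrictScalars F)
  rw [h1, ← h3, h4, ← (Module.AEval'.of (Matrix.toLin' A)).finrank_eq]
  simp

theorem HasType.eq_of_rank_eq {A B : Matrix n n F} {T T' : Multiset (F[X] × ℕ)}
    (h : HasType A T) (h' : HasType B T')
    (hr : ∀ f : F[X], (aeval A f).rank = (aeval B f).rank) : T = T' := by
  apply ModHasType.eq_of_cork_eq h h'
  intro f
  have h1 := cork_matMod A f
  have h2 := cork_matMod B f
  rw [hr] at h1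
  omega

theorem HasType.unique {A : Matrix n n F} {T T' : Multiset (F[X] × ℕ)}
    (h : HasType A T) (h' : HasType A T') : T = T' := ModHasType.unique h h'

theorem HasType.conj {A B : Matrix n n F} {T : Multiset (F[X] × ℕ)}
    (h : HasType A T) (h' : HasType B T) :
    ∃ P : GL n F, (P : Matrix n n F) * A = B * (P : Matrix n n F) := by
  obtain ⟨φ⟩ := ModHasType.equiv h h'
  exact conj_of_matMod_equiv φ

theorem HasType.of_conj {A B : Matrix n n F} {T : Multiset (F[X] × ℕ)}
    (h : HasType A T) (P : GL n F) (hP : (P : Matrix n n F) * A = B * (P : Matrix n n F)) :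
    HasType B T := by
  obtain ⟨φ⟩ := matMod_equiv_of_conj P hP
  exact ModHasType.congr h φ.symm

theorem exists_matrix_of_module (N : Type*) [AddCommGroup N] [Module F N] [Module F[X] N]
    [IsScalarTower F F[X] N] [Module.Finite F N] (hN : Module.finrank F N = Fintype.card n) :
    ∃ A : Matrix n n F, Nonempty (MatMod A ≃ₗ[F[X]] N) := by
  let φ : (n → F) ≃ₗ[F] N := LinearEquiv.ofFinrankEq (n → F) N (by simp [hN])
  let Xm : N →ₗ[F] N := (LinearMap.lsmul F[X] N X).restrictScalars F
  refine ⟨LinearMap.toMatrix' ((φ.symm.toLinearMap.comp Xm).comp φ.toLinearMap),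
    ⟨matModEquiv _ φ ?_⟩⟩
  intro v
  rw [← Matrix.toLin'_apply, Matrix.toLin'_toMatrix']
  simp [Xm]

theorem finite_EDMod {ι : Type*} [Fintype ι] (pe : ι → F[X] × ℕ) (h : IsED pe) :
    Module.Finite F (EDMod pe) := by
  have : ∀ i, Module.Finite F (F[X] ⧸ Ideal.span {(pe i).1 ^ (pe i).2}) :=
    fun i => finite_cyc (h i).1 _
  infer_instance

theorem finrank_EDMod {ι : Type*} [Fintype ι] (pe : ι → F[X] × ℕ) (h : IsED pe) :
    Module.finrank F (EDMod pe) = ∑ i, (pe i).2 * (pe i).1.natDegree := by
  have : ∀ i, Module.Finite F (F[X] ⧸ Ideal.span {(pe i).1 ^ (pe i).2}) :=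
    fun i => finite_cyc (h i).1 _
  rw [Module.finrank_pi_fintype]
  refine Finset.sum_congr rfl (fun i _ => ?_)
  rw [finrank_quotient_span_eq_natDegree, natDegree_pow]

theorem HasType.sum_deg {A : Matrix n n F} {T : Multiset (F[X] × ℕ)} (h : HasType A T) :
    (T.map (fun x => x.2 * x.1.natDegree)).sum = Fintype.card n := by
  obtain ⟨m, pe, hpe, rfl, ⟨e⟩⟩ := h
  have h1 := (e.restrictScalars F).finrank_eq
  rw [finrank_EDMod pe hpe, ← (Module.AEval'.of (Matrix.toLin' A)).finrank_eq] at h1
  rw [Multiset.map_map]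
  simp only [Module.finrank_fintype_fun_eq_card] at h1
  rw [h1]
  rfl

theorem exists_hasType_of_valid (T : Multiset (F[X] × ℕ))
    (hT : ∀ x ∈ T, x.1.Monic ∧ Irreducible x.1 ∧ 1 ≤ x.2)
    (hdeg : (T.map (fun x => x.2 * x.1.natDegree)).sum = Fintype.card n) :
    ∃ A : Matrix n n F, HasType A T := by
  obtain ⟨l, rfl⟩ := Quot.exists_rep T
  let pe : Fin l.length → F[X] × ℕ := l.get
  have hmap : Finset.univ.val.map pe = (Quot.mk _ l : Multiset (F[X] × ℕ)) := by
    rw [Fin.univ_val_map, List.ofFn_get]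
    rfl
  have hpe : IsED pe := fun i => hT _ (by
    show l.get i ∈ (l : Multiset (F[X] × ℕ))
    exact Multiset.mem_coe.2 (List.get_mem l i))
  have := finite_EDMod pe hpe
  have hfr : Module.finrank F (EDMod pe) = Fintype.card n := by
    rw [finrank_EDMod pe hpe, ← hdeg, ← hmap, Multiset.map_map]
    rfl
  obtain ⟨A, ⟨e⟩⟩ := exists_matrix_of_module (n := n) (EDMod pe) hfr
  exact ⟨A, l.length, pe, hpe, hmap, ⟨e⟩⟩

end Cfsg.Agent.Lib.Helper45
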