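import Cfsg.Agent.Lib.Helper45.SimCork

set_option autoImplicit false

/-! Elementary divisor type of a finite-dimensional `F[X]`-module. -/

open Polynomial

namespace Cfsg.Agent.Lib.Helper45

variable {F : Type*} [Field F]

section equivs

variable {ι κ : Type*} [Fintype ι] [Fintype κ]

omit [Fintype ι] [Fintype κ] in
/-- reindexing of the model modules. -/
theorem EDMod_equiv_of_equiv (pe : ι → F[X] × ℕ) (pe' : κ → F[X] × ℕ) (σ : ι ≃ κ)
    (hσ : ∀ i, pe' (σ i) = pe i) : Nonempty (EDMod pe ≃ₗ[F[X]] EDMod pe') := by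
  have e1 : EDMod pe ≃ₗ[F[X]] (∀ i, F[X] ⧸ Ideal.span {(pe' (σ i)).1 ^ (pe' (σ i)).2}) :=
    LinearEquiv.piCongrRight (fun i => Submodule.quotEquivOfEq _ _ (by rw [hσ i]))
  have e2 : (∀ i, F[X] ⧸ Ideal.span {(pe' (σ i)).1 ^ (pe' (σ i)).2}) ≃ₗ[F[X]] EDMod pe' :=
    LinearEquiv.piCongrLeft F[X] (fun j => F[X] ⧸ Ideal.span {(pe' j).1 ^ (pe' j).2}) σ
  exact ⟨e1.trans e2⟩

theorem exists_equiv_of_map_eq {α : Type*} (f : ι → α) (g : κ → α)
    (h : Finset.univ.val.map f = Finset.univ.val.map g) : ∃ σ : ι ≃ κ, ∀ i, g (σ i) = f i := by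
  classical
  have hc : ∀ c, Fintype.card {a // f a = c} = Fintype.card {b // g b = c} := by
    intro c
    have h1 := congrArg (Multiset.count c) h
    rw [Multiset.count_map, Multiset.count_map] at h1
    rw [Fintype.card_subtype, Fintype.card_subtype]
    simp only [Finset.card, Finset.filter_val]
    simpa [eq_comm] using h1
  exact ⟨Equiv.ofFiberEquiv (fun c => Fintype.equivOfCardEq (hc c)), Equiv.ofFiberEquiv_map _⟩

theorem EDMod_equiv_of_map_eq (pe : ι → F[X] × ℕ) (pe' : κ → F[X] × ℕ)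
    (h : Finset.univ.val.map pe = Finset.univ.val.map pe') :
    Nonempty (EDMod pe ≃ₗ[F[X]] EDMod pe') := by
  obtain ⟨σ, hσ⟩ := exists_equiv_of_map_eq pe pe' h
  exact EDMod_equiv_of_equiv pe pe' σ hσ

end equivs

section modtype

variable (M : Type*) [AddCommGroup M] [Module F[X] M]

/-- `M` has elementary divisor type `T`. -/
def ModHasType (T : Multiset (F[X] × ℕ)) : Prop :=
  ∃ (m : ℕ) (pe : Fin m → F[X] × ℕ), IsED pe ∧ Finset.univ.val.map pe = T ∧
    Nonempty (M ≃ₗ[F[X]] EDMod pe)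

variable {M}

theorem ModHasType.valid {T : Multiset (F[X] × ℕ)} (h : ModHasType M T) :
    ∀ x ∈ T, x.1.Monic ∧ Irreducible x.1 ∧ 1 ≤ x.2 := by
  obtain ⟨m, pe, hpe, rfl, _⟩ := h
  intro x hx
  obtain ⟨i, _, rfl⟩ := Multiset.mem_map.1 hx
  exact hpe i

theorem ModHasType.of_family {ι : Type*} [Fintype ι] (pe : ι → F[X] × ℕ) (hpe : IsED pe)
    (e : M ≃ₗ[F[X]] EDMod pe) : ModHasType M (Finset.univ.val.map pe) := by
  classical
  let σ := Fintype.equivFin ι
  refine ⟨Fintype.card ι, pe ∘ σ.symm, fun i => hpe _, ?_, ?_⟩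
  · have : Finset.univ.val.map (pe ∘ σ.symm) = (Finset.univ.val.map σ.symm).map pe := by
      rw [Multiset.map_map]
    rw [this]
    congr 1
    have h2 : (Finset.univ : Finset ι) = Finset.univ.map σ.symm.toEmbedding := by simp
    rw [h2, Finset.map_val]
    rfl
  · obtain ⟨e2⟩ := EDMod_equiv_of_equiv pe (pe ∘ σ.symm) σ (fun i => by simp)
    exact ⟨e.trans e2⟩

theorem ModHasType.equiv {N : Type*} [AddCommGroup N] [Module F[X] N]
    {T : Multiset (F[X] × ℕ)} (h : ModHasType M T) (h' : ModHasType N T) :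
    Nonempty (M ≃ₗ[F[X]] N) := by
  obtain ⟨m, pe, _, h1, ⟨e⟩⟩ := h
  obtain ⟨m', pe', _, h1', ⟨e'⟩⟩ := h'
  obtain ⟨e2⟩ := EDMod_equiv_of_map_eq pe pe' (h1.trans h1'.symm)
  exact ⟨(e.trans e2).trans e'.symm⟩

theorem ModHasType.congr {N : Type*} [AddCommGroup N] [Module F[X] N]
    {T : Multiset (F[X] × ℕ)} (h : ModHasType M T) (φ : N ≃ₗ[F[X]] M) : ModHasType N T := by
  obtain ⟨m, pe, h0, h1, ⟨e⟩⟩ := h
  exact ⟨m, pe, h0, h1, ⟨φ.trans e⟩⟩

theorem ModHasType.eq_of_cork_eq [Module F M] [IsScalarTower F F[X] M]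
    {N : Type*} [AddCommGroup N] [Module F[X] N] [Module F N] [IsScalarTower F F[X] N]
    {T T' : Multiset (F[X] × ℕ)} (h : ModHasType M T) (h' : ModHasType N T')
    (hc : ∀ f, cork F M f = cork F N f) : T = T' := by
  obtain ⟨m, pe, h0, rfl, ⟨e⟩⟩ := h
  obtain ⟨m', pe', h0', rfl, ⟨e'⟩⟩ := h'
  apply map_eq_of_cork_eq pe h0 pe' h0'
  intro f
  rw [← cork_congr F e, ← cork_congr F e', hc]

theorem ModHasType.unique [Module F M] [IsScalarTower F F[X] M]
    {T T' : Multiset (F[X] × ℕ)} (h : ModHasType M T) (h' : ModHasType M T') : T = T' :=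
  h.eq_of_cork_eq h' (fun _ => rfl)

theorem exists_modHasType [Module.Finite F[X] M] (hM : Module.IsTorsion F[X] M) :
    ∃ T : Multiset (F[X] × ℕ), ModHasType M T := by
  classical
  obtain ⟨ι, _, p, hp, e, ⟨φ⟩⟩ := Module.equiv_directSum_of_isTorsion hM
  let pe : {i // e i ≠ 0} → F[X] × ℕ := fun i => (normalize (p i.1), e i.1)
  have hpe : IsED pe := by
    intro i
    refine ⟨Polynomial.monic_normalize (hp i.1).ne_zero,
      (associated_normalize (p i.1)).irreducible (hp i.1), Nat.one_le_iff_ne_zero.2 i.2⟩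
  refine ⟨_, ModHasType.of_family pe hpe ?_⟩
  let e1 := DirectSum.linearEquivFunOnFintype F[X] ι
    (fun i => F[X] ⧸ Submodule.span F[X] {p i ^ e i})
  let r : (∀ i, F[X] ⧸ Submodule.span F[X] {p i ^ e i}) →ₗ[F[X]]
      (∀ i : {i // e i ≠ 0}, F[X] ⧸ Submodule.span F[X] {p i.1 ^ e i.1}) :=
    LinearMap.pi (fun i => LinearMap.proj i.1)
  have hr : Function.Bijective r := by
    constructor
    · intro x y hxy
      funext i
      by_cases hi : e i = 0
      · have : Subsingleton (F[X] ⧸ Submodule.span F[X] {p i ^ e i}) := by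
          rw [hi, pow_zero]
          exact Submodule.Quotient.subsingleton_iff.2 Ideal.span_singleton_one
        exact Subsingleton.elim _ _
      · exact congrFun hxy ⟨i, hi⟩
    · intro y
      refine ⟨fun i => if h : e i ≠ 0 then y ⟨i, h⟩ else 0, ?_⟩
      funext i
      simp [r, i.2]
  let e2 := LinearEquiv.ofBijective r hr
  have e3 : (∀ i : {i // e i ≠ 0}, F[X] ⧸ Submodule.span F[X] {p i.1 ^ e i.1})
      ≃ₗ[F[X]] EDMod pe :=
    LinearEquiv.piCongrRight (fun i => Submodule.quotEquivOfEq _ _ (by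
      show Ideal.span {p i.1 ^ e i.1} = Ideal.span {(normalize (p i.1)) ^ e i.1}
      rw [Ideal.span_singleton_eq_span_singleton]
      exact (associated_normalize (p i.1)).pow_pow))
  exact ((φ.trans e1).trans e2).trans e3

end modtype

end Cfsg.Agent.Lib.Helper45
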